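import Groth.Prelude.Def_Frob
import Groth.Agent.RelFrobEt.Flat
import Mathlib.AlgebraicGeometry.Morphisms.Flat
import Mathlib.AlgebraicGeometry.Morphisms.Smooth

/-! The relative Frobenius of a smooth morphism of schemes is flat. -/

set_option autoImplicit false
set_option linter.style.haveILetI false
set_option backward.isDefEq.respectTransparency false

universe u

open CategoryTheory CategoryTheory.Limits AlgebraicGeometry FrobSch TensorProduct

namespace Groth.Agent.FrobFlat

variable (p : ℕ) [Fact p.Prime]

/-- Functoriality of the Frobenius twist. -/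
noncomputable def twMap {X S X' S' : Scheme.{u}} [IsCharP S p] [IsCharP S' p] (f : X ⟶ S) (f' : X' ⟶ S')
    (i : X' ⟶ X) (j : S' ⟶ S) (h : f' ≫ j = i ≫ f) : frobTwist f' p ⟶ frobTwist f p :=
  pullback.map f' (frob S' p) f (frob S p) i j j h (frob_comp p j)

theorem relFrob_naturality {X S X' S' : Scheme.{u}} [IsCharP S p] [IsCharP S' p] (f : X ⟶ S) (f' : X' ⟶ S')
    (i : X' ⟶ X) (j : S' ⟶ S) (h : f' ≫ j = i ≫ f) :
    relFrob f' p ≫ twMap p f f' i j h = i ≫ relFrob f p := by
  haveI : IsCharP X p := IsCharP.of_hom f p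
  haveI : IsCharP X' p := IsCharP.of_hom f' p
  apply pullback.hom_ext
  · simp only [twMap, Category.assoc, pullback.map, pullback.lift_fst, relFrob_fst_assoc, relFrob_fst]
    exact frob_comp p i
  · simp only [twMap, Category.assoc, pullback.map, pullback.lift_snd, relFrob_snd_assoc, relFrob_snd]
    exact h

theorem frob_spec (R : CommRingCat.{u}) [CharP R p] :
    frob (Spec R) p = Spec.map (CommRingCat.ofHom (frobenius R p)) := by
  refine ext_of_isAffine ?_
  apply CommRingCat.hom_ext
  ext s
  show s ^ p = _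
  apply (Scheme.ΓSpecIso R).commRingCatIsoToRingEquiv.injective
  rw [map_pow]
  have := congr($(Scheme.ΓSpecIso_naturality (CommRingCat.ofHom (frobenius R p))).hom s)
  exact this.symm

theorem flat_relFrob_spec (A B : Type u) [CommRing A] [CommRing B] [Algebra A B] [CharP A p] [CharP B p]
    [Algebra.Smooth A B] :
    Flat (relFrob (Spec.map (CommRingCat.ofHom (algebraMap A B))) p) := by
  let f := Spec.map (CommRingCat.ofHom (algebraMap A B))
  haveI : IsCharP (Spec (CommRingCat.of B)) p := IsCharP.of_hom f p
  let T := FrobAlg.Twist p A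
  have sq0 : IsPullback (Spec.map (CommRingCat.ofHom (algebraMap B (B ⊗[A] T))))
      (Spec.map (CommRingCat.ofHom (Algebra.TensorProduct.includeRight : T →ₐ[A] B ⊗[A] T).toRingHom))
      f (Spec.map (CommRingCat.ofHom (algebraMap A T))) :=
    isPullback_SpecMap_of_isPushout _ _ _ _ (CommRingCat.isPushout_tensorProduct A B T)
  let θ : Spec (CommRingCat.of T) ≅ Spec (CommRingCat.of A) :=
    Scheme.Spec.mapIso (FrobAlg.toTwist p A).toCommRingCatIso.op
  have hθ : θ.hom ≫ frob (Spec (CommRingCat.of A)) p = Spec.map (CommRingCat.ofHom (algebraMap A T)) := by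
    rw [frob_spec]
    erw [← Spec.map_comp]
    rfl
  have sq : IsPullback (Spec.map (CommRingCat.ofHom (algebraMap B (B ⊗[A] T))))
      (Spec.map (CommRingCat.ofHom (Algebra.TensorProduct.includeRight : T →ₐ[A] B ⊗[A] T).toRingHom) ≫ θ.hom)
      f (frob (Spec (CommRingCat.of A)) p) :=
    sq0.of_iso (Iso.refl _) (Iso.refl _) θ (Iso.refl _) (by simp) (by simp) (by simp) (by simpa using hθ.symm)
  let ρ : Spec (CommRingCat.of B) ⟶ frobTwist f p :=
    Spec.map (CommRingCat.ofHom (FrobAlg.relFrob p A B)) ≫ sq.isoPullback.hom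
  haveI : Flat (Spec.map (CommRingCat.ofHom (FrobAlg.relFrob p A B))) := by
    rw [HasRingHomProperty.Spec_iff (P := @Flat)]
    exact RelFrobEt.relFrob_flat B
  have h1 : ρ = relFrob f p := by
    apply pullback.hom_ext
    · rw [relFrob_fst]
      simp only [ρ, Category.assoc, IsPullback.isoPullback_hom_fst]
      rw [← Spec.map_comp, frob_spec p (CommRingCat.of B)]
      congr 1
      apply CommRingCat.hom_ext
      refine RingHom.ext fun b => ?_
      show FrobAlg.relFrob p A B (b ⊗ₜ 1) = b ^ p
      rw [RelFrobEt.relFrob_tmul, map_one, map_one, mul_one]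
    · rw [relFrob_snd]
      simp only [ρ, Category.assoc, IsPullback.isoPullback_hom_snd]
      erw [← Spec.map_comp, ← Spec.map_comp]
      congr 1
      apply CommRingCat.hom_ext
      refine RingHom.ext fun a => ?_
      show FrobAlg.relFrob p A B (1 ⊗ₜ (FrobAlg.toTwist p A a)) = algebraMap A B a
      rw [RelFrobEt.relFrob_tmul, one_pow, one_mul, RingEquiv.symm_apply_apply]
  rw [← h1]
  infer_instance

/-- **The relative Frobenius of a smooth morphism is flat.** -/
theorem flat_relFrob {X S : Scheme.{u}} [IsCharP S p] (f : X ⟶ S) [Smooth f] : Flat (relFrob f p) := by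
  choose U hU V hV hxV e hstd using fun x => Smooth.exists_isStandardSmooth f x
  refine IsZariskiLocalAtSource.of_iSup_eq_top (P := @Flat) V
    (eq_top_iff.2 fun x _ => TopologicalSpace.Opens.mem_iSup.2 ⟨x, hxV x⟩) fun x => ?_
  let A := Γ(S, U x)
  let B := Γ(X, V x)
  letI : Algebra A B := (f.appLE (U x) (V x) (e x)).hom.toAlgebra
  haveI : Algebra.Smooth A B := by
    haveI : Algebra.IsStandardSmooth A B := hstd x
    infer_instance
  have hA : (p : A) = 0 := natCast_eq_zero_app S p _
  have hB : (p : B) = 0 := by rw [← map_natCast (algebraMap A B), hA, map_zero]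
  haveI : Nontrivial B := by
    haveI : Nonempty (V x : X.Opens) := ⟨⟨x, hxV x⟩⟩
    infer_instance
  haveI : Nontrivial A := (algebraMap A B).domain_nontrivial
  haveI : CharP A p := (CharP.charP_iff_prime_eq_zero Fact.out).mpr hA
  haveI : CharP B p := (CharP.charP_iff_prime_eq_zero Fact.out).mpr hB
  let g := Spec.map (CommRingCat.ofHom (algebraMap A B))
  let i : Spec (CommRingCat.of B) ⟶ X := (hV x).fromSpec
  let j : Spec (CommRingCat.of A) ⟶ S := (hU x).fromSpec
  have hcomm : g ≫ j = i ≫ f := (hU x).SpecMap_appLE_fromSpec f (hV x) (e x)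
  haveI : IsOpenImmersion i := (hV x).isOpenImmersion_fromSpec
  haveI : IsOpenImmersion j := (hU x).isOpenImmersion_fromSpec
  haveI : IsOpenImmersion (twMap p f g i j hcomm) := by
    unfold twMap
    infer_instance
  haveI := flat_relFrob_spec p A B
  haveI : Flat (relFrob g p) := this
  haveI : Flat (i ≫ relFrob f p) := by
    rw [← relFrob_naturality p f g i j hcomm]
    infer_instance
  have : (V x).ι ≫ relFrob f p = (hV x).isoSpec.hom ≫ i ≫ relFrob f p := by
    rw [← Category.assoc]
    congr 1
    exact ((hV x).isoSpec_hom_fromSpec).symm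
  rw [this]
  infer_instance

end Groth.Agent.FrobFlat
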